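import Cfsg.Agent.Lib.T3.Hlp
import Cfsg.Agent.Lib.T3.Fac

/-! The alternating group of degree 12 with the letters `z a b c d e f p q r t w v x` (generated). -/

set_option autoImplicit false
set_option maxRecDepth 100000

namespace Cfsg.Lib.D6

open Cfsg.Lib.Calc Cfsg.Lib.T2 Cfsg.Lib.T3 Subgroup

def dm_L0 : List (ℕ × List ℕ) := [((nat_lit 0), [(nat_lit 205163983024656), (nat_lit 188606631453441), (nat_lit 205163983015986), (nat_lit 205163983012131), (nat_lit 205162837734996), (nat_lit 188605486163781), (nat_lit 205162837726326), (nat_lit 205162837722471), (nat_lit 130103989287576), (nat_lit 113546637716361), (nat_lit 130103989278906), (nat_lit 130103989275051)]),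
  ((nat_lit 4), [(nat_lit 205163983024656), (nat_lit 188606631452976), (nat_lit 205163410388496), (nat_lit 130106279866896), (nat_lit 205162844410896), (nat_lit 188606058815856), (nat_lit 113548928295216), (nat_lit 188605492838736), (nat_lit 188606058686256), (nat_lit 130104000419856), (nat_lit 113546648846736)]),
  ((nat_lit 8), [(nat_lit 205163983024656), (nat_lit 188606629286736), (nat_lit 167342501050896), (nat_lit 55484943219216), (nat_lit 55776430561296), (nat_lit 150785155668816), (nat_lit 38927597837136), (nat_lit 39219083090256), (nat_lit 150793736203056), (nat_lit 167269486606896)]),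
  ((nat_lit 2), [(nat_lit 205163983024656), (nat_lit 188258735891856), (nat_lit 55631542515216), (nat_lit 188121298015056), (nat_lit 130396051520016), (nat_lit 204682950889776), (nat_lit 40925318637456), (nat_lit 204889103014176), (nat_lit 113353374866256)]),
  ((nat_lit 6), [(nat_lit 205163983024656), (nat_lit 63121965478416), (nat_lit 130464888435216), (nat_lit 64219719692976), (nat_lit 130396108100256), (nat_lit 54325357605456), (nat_lit 124968039133776), (nat_lit 195269201506896)]),
  ((nat_lit 1), [(nat_lit 205163983024656), (nat_lit 62778306220656), (nat_lit 89783985779376), (nat_lit 129364787507856), (nat_lit 27867739337376), (nat_lit 184274331652656), (nat_lit 170529371992656)]),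
  ((nat_lit 3), [(nat_lit 205163983024656), (nat_lit 199527916413456), (nat_lit 169568369922576), (nat_lit 197193065853456), (nat_lit 134932138856976), (nat_lit 164343545377296)]),
  ((nat_lit 5), [(nat_lit 205163983024656), (nat_lit 98649601487376), (nat_lit 166749264949776), (nat_lit 135620414681616), (nat_lit 181937877824016)]),
  ((nat_lit 9), [(nat_lit 205163983024656), (nat_lit 169843245724176), (nat_lit 134933214671376), (nat_lit 171147842040336)]),
  ((nat_lit 7), [(nat_lit 205163983024656), (nat_lit 135895555781136), (nat_lit 184274335838736)])]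

def dm_D0 : List ℕ := [(nat_lit 0), (nat_lit 513), (nat_lit 1025), (nat_lit 1537), (nat_lit 6145), (nat_lit 333826), (nat_lit 371714), (nat_lit 411650), (nat_lit 454146), (nat_lit 498178), (nat_lit 544258), (nat_lit 592386), (nat_lit 0), (nat_lit 409858), (nat_lit 32971523), (nat_lit 6657), (nat_lit 33737987), (nat_lit 3798213380), (nat_lit 952834), (nat_lit 4548250372), (nat_lit 73265411), (nat_lit 1149442), (nat_lit 1294850), (nat_lit 0), (nat_lit 8548257540), (nat_lit 634153282821), (nat_lit 100398851), (nat_lit 769920866565), (nat_lit 94781290041094), (nat_lit 13723216644), (nat_lit 118923194181382), (nat_lit 1480000844549), (nat_lit 17083457284), (nat_lit 0), (nat_lit 1902572611845), (nat_lit 2165316091141), (nat_lit 2391854807813), (nat_lit 2412648664325), (nat_lit 338336741585158), (nat_lit 378952412824326), (nat_lit 423770728768262), (nat_lit 463426176754950), (nat_lit 0), (nat_lit 0xdac578c70cc707), (nat_lit 0xf249926f5d4507), (nat_lit 0x94d22cac95316d08), (nat_lit 0xa9d1e45465645308),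 (nat_lit 0xc1939a793a399908), (nat_lit 0xdf84400ddd21fd08), (nat_lit 0xf98a83a36eeae308), (nat_lit 0), (nat_lit 0x97fd1f3d3cce723909), (nat_lit 0x23bd1ee0934b307), (nat_lit 0xbd9b05161fe0b89f09), (nat_lit 0x2781777ad986307), (nat_lit 0x970907ab1008076f610a), (nat_lit 0x22d623bfbddb58b08), (nat_lit 0), (nat_lit 0x17c538792a75ff2c309), (nat_lit 0x1c7f9355b0bcc6a1d09), (nat_lit 0x1d7df5cb98a0ec8af09), (nat_lit 0x21c6675eba302058709), (nat_lit 0x18e9885c2f0c17a5d6f0a), (nat_lit 0), (nat_lit 0x12d9b82c7ee2410e4b08d0b), (nat_lit 0x155ebc2fef804c8816df30b), (nat_lit 0x1091945ebce5f89d6d4a8210c), (nat_lit 0x1333415a2b359b67e6ac73f0c), (nat_lit 0), (nat_lit 0x10a06766b909e7f4a719a1ba90d), (nat_lit 0x12edb3023b7433dc1160a92ed0d), (nat_lit 0x22067ecbecbfb77cb1b10010c), (nat_lit 0), (nat_lit 0x3763f96d9a098630669050b), (nat_lit 0x3edbb3651f948dc164b790b)]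

def dm_L1 : List (ℕ × List ℕ) := [((nat_lit 0), [(nat_lit 205163983024656), (nat_lit 188606631453441), (nat_lit 205163983015986), (nat_lit 205163983012131), (nat_lit 205162837734996), (nat_lit 188605486163781), (nat_lit 205162837726326), (nat_lit 205162837722471), (nat_lit 130103989287576), (nat_lit 113546637716361), (nat_lit 130103989278906), (nat_lit 130103989275051)]),
  ((nat_lit 4), [(nat_lit 205163983024656), (nat_lit 188606059800336), (nat_lit 130106279866896), (nat_lit 205163414827536), (nat_lit 188605492843536), (nat_lit 76083928590096), (nat_lit 188605742278416), (nat_lit 130105711669776), (nat_lit 188606629237776), (nat_lit 113546648852496)]),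
  ((nat_lit 8), [(nat_lit 205163983024656), (nat_lit 55777000977936), (nat_lit 167279217370896), (nat_lit 167633417976336), (nat_lit 129960246548496), (nat_lit 204952388798736), (nat_lit 130479367136016), (nat_lit 39073302755856)]),
  ((nat_lit 2), [(nat_lit 205163983024656), (nat_lit 188669916116496), (nat_lit 113903125445136), (nat_lit 188670167770896), (nat_lit 205163731362576), (nat_lit 39137727261456)]),
  ((nat_lit 6), [(nat_lit 205163983024656), (nat_lit 130398333186576), (nat_lit 113905407111696), (nat_lit 188671056949776)])]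

def dm_D1 : List ℕ := [(nat_lit 0), (nat_lit 513), (nat_lit 1025), (nat_lit 1537), (nat_lit 6145), (nat_lit 297986), (nat_lit 333826), (nat_lit 371714), (nat_lit 412162), (nat_lit 454146), (nat_lit 498178), (nat_lit 544258), (nat_lit 0), (nat_lit 28596995), (nat_lit 6657), (nat_lit 2049), (nat_lit 31605507), (nat_lit 3454327556), (nat_lit 3932431108), (nat_lit 986626), (nat_lit 4709239556), (nat_lit 1081858), (nat_lit 0), (nat_lit 90227459), (nat_lit 602144909061), (nat_lit 97121027), (nat_lit 9804734212), (nat_lit 10838143748), (nat_lit 11644239108), (nat_lit 97273247487238), (nat_lit 0), (nat_lit 0x261435f02b6507), (nat_lit 126147790526214), (nat_lit 0x2edf7cfbf0d507), (nat_lit 0x183efd253d056b08), (nat_lit 0x490e40237c7d07), (nat_lit 0), (nat_lit 0x6107483e952507), (nat_lit 0x2a696f4aefe25908), (nat_lit 0x16c03086e826b06b09)]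

def dm_L2 : List (ℕ × List ℕ) := [((nat_lit 0), [(nat_lit 205163983024656), (nat_lit 205163983015986), (nat_lit 205163983012131), (nat_lit 205163983020801)]),
  ((nat_lit 4), [(nat_lit 205163983024656), (nat_lit 205163414827536), (nat_lit 205163162186256), (nat_lit 205163730383376)]),
  ((nat_lit 8), [(nat_lit 205163983024656), (nat_lit 167926616568336), (nat_lit 151369517642256), (nat_lit 188606884098576)])]

def dm_D2 : List ℕ := [(nat_lit 0), (nat_lit 513), (nat_lit 1025), (nat_lit 82946), (nat_lit 0), (nat_lit 1537), (nat_lit 2049), (nat_lit 174082), (nat_lit 0), (nat_lit 2561), (nat_lit 3073), (nat_lit 297986)]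

def dm_L3 : List (ℕ × List ℕ) := [((nat_lit 0), [(nat_lit 205163983024656), (nat_lit 205163983015986), (nat_lit 205163983012131), (nat_lit 205162837734996), (nat_lit 205163983020801), (nat_lit 205162837726326), (nat_lit 205162837722471), (nat_lit 205162837731141)]),
  ((nat_lit 4), [(nat_lit 205163983024656), (nat_lit 205163414827536), (nat_lit 205163413840656), (nat_lit 205163982037776)]),
  ((nat_lit 8), [(nat_lit 205163983024656), (nat_lit 167926616568336), (nat_lit 167861940400656), (nat_lit 205099306856976)]),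
  ((nat_lit 2), [(nat_lit 205163983024656), (nat_lit 205163731362576)]),
  ((nat_lit 6), [(nat_lit 205163983024656), (nat_lit 188671056949776)])]

def dm_D3 : List ℕ := [(nat_lit 0), (nat_lit 513), (nat_lit 1025), (nat_lit 4609), (nat_lit 158722), (nat_lit 173570), (nat_lit 201218), (nat_lit 248322), (nat_lit 0), (nat_lit 1537), (nat_lit 392706), (nat_lit 431618), (nat_lit 0), (nat_lit 2561), (nat_lit 569346), (nat_lit 616962), (nat_lit 0), (nat_lit 3585), (nat_lit 0), (nat_lit 4097)]

def dm_L4 : List (ℕ × List ℕ) := [((nat_lit 0), [(nat_lit 205163983024656), (nat_lit 205163983015986), (nat_lit 205163983012131), (nat_lit 188669911660116), (nat_lit 205163983020801), (nat_lit 188669911651446), (nat_lit 188670163309671), (nat_lit 188669911656261)]),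
  ((nat_lit 4), [(nat_lit 205163983024656), (nat_lit 205163414827536), (nat_lit 205163413840656), (nat_lit 205163982037776)]),
  ((nat_lit 8), [(nat_lit 205163983024656), (nat_lit 167926616568336), (nat_lit 151369517642256), (nat_lit 188606884098576)]),
  ((nat_lit 2), [(nat_lit 205163983024656), (nat_lit 205163731362576)])]

def dm_D4 : List ℕ := [(nat_lit 0), (nat_lit 513), (nat_lit 1025), (nat_lit 3585), (nat_lit 111618), (nat_lit 123394), (nat_lit 132866), (nat_lit 187906), (nat_lit 0), (nat_lit 1537), (nat_lit 11486723), (nat_lit 351746), (nat_lit 0), (nat_lit 2561), (nat_lit 3073), (nat_lit 497666), (nat_lit 0), (nat_lit 285186)]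

def dm_L5 : List (ℕ × List ℕ) := [((nat_lit 0), [(nat_lit 205163983024656), (nat_lit 205163983015986), (nat_lit 205163983012131), (nat_lit 205163983020801)]),
  ((nat_lit 4), [(nat_lit 205163983024656), (nat_lit 205163414827536), (nat_lit 205163413840656), (nat_lit 205163982037776)]),
  ((nat_lit 8), [(nat_lit 205163983024656), (nat_lit 167926616568336), (nat_lit 151369517642256), (nat_lit 188606884098576)]),
  ((nat_lit 2), [(nat_lit 205163983024656), (nat_lit 205163731362576)])]

def dm_D5 : List ℕ := [(nat_lit 0), (nat_lit 513), (nat_lit 1025), (nat_lit 102402), (nat_lit 0), (nat_lit 1537), (nat_lit 189954), (nat_lit 216578), (nat_lit 0), (nat_lit 2561), (nat_lit 3073), (nat_lit 333826), (nat_lit 0), (nat_lit 3585)]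

def dm_L6 : List (ℕ × List ℕ) := [((nat_lit 0), [(nat_lit 205163983024656), (nat_lit 205163983020801)]),
  ((nat_lit 4), [(nat_lit 205163983024656), (nat_lit 205163730383376)]),
  ((nat_lit 8), [(nat_lit 205163983024656), (nat_lit 167926616568336), (nat_lit 151369517642256), (nat_lit 188606884098576)])]

def dm_D6 : List ℕ := [(nat_lit 0), (nat_lit 513), (nat_lit 0), (nat_lit 1025), (nat_lit 0), (nat_lit 1537), (nat_lit 2049), (nat_lit 124930)]

def dm_L7 : List (ℕ × List ℕ) := [((nat_lit 0), [(nat_lit 205163983024656), (nat_lit 205163983020801)]),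
  ((nat_lit 2), [(nat_lit 205163983024656), (nat_lit 205163731362576)]),
  ((nat_lit 4), [(nat_lit 205163983024656), (nat_lit 205163730383376)]),
  ((nat_lit 6), [(nat_lit 205163983024656), (nat_lit 188671056949776)]),
  ((nat_lit 8), [(nat_lit 205163983024656), (nat_lit 188606884098576)])]

def dm_D7 : List ℕ := [(nat_lit 0), (nat_lit 513), (nat_lit 0), (nat_lit 1025), (nat_lit 0), (nat_lit 1537), (nat_lit 0), (nat_lit 2049), (nat_lit 0), (nat_lit 2561)]

def dm_L8 : List (ℕ × List ℕ) := [((nat_lit 0), [(nat_lit 205163983024656), (nat_lit 205163983015986), (nat_lit 205163983012131), (nat_lit 205163983020801)]),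
  ((nat_lit 4), [(nat_lit 205163983024656), (nat_lit 205163414827536), (nat_lit 205163162186256), (nat_lit 205017388167696), (nat_lit 205163730383376), (nat_lit 205017135526416), (nat_lit 167633995051536), (nat_lit 167633742410256)]),
  ((nat_lit 8), [(nat_lit 205163983024656), (nat_lit 167926616568336), (nat_lit 205018524561936), (nat_lit 204953848394256), (nat_lit 205099306856976), (nat_lit 167861940400656)]),
  ((nat_lit 6), [(nat_lit 205163983024656), (nat_lit 130398333186576), (nat_lit 113905407111696), (nat_lit 188671056949776)])]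

def dm_D8 : List ℕ := [(nat_lit 0), (nat_lit 513), (nat_lit 1025), (nat_lit 102402), (nat_lit 0), (nat_lit 1537), (nat_lit 2049), (nat_lit 203266), (nat_lit 215042), (nat_lit 247298), (nat_lit 279042), (nat_lit 333314), (nat_lit 0), (nat_lit 2561), (nat_lit 3585), (nat_lit 16353027), (nat_lit 1263509252), (nat_lit 616962), (nat_lit 0), (nat_lit 31557379), (nat_lit 37084931), (nat_lit 2737003268)]

def dm_L9 : List (ℕ × List ℕ) := [((nat_lit 4), [(nat_lit 205163983024656), (nat_lit 205163414827536), (nat_lit 205163162186256), (nat_lit 205163730383376)]),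
  ((nat_lit 8), [(nat_lit 205163983024656), (nat_lit 167926616568336), (nat_lit 151369517642256), (nat_lit 188606884098576)])]

def dm_D9 : List ℕ := [(nat_lit 0), (nat_lit 513), (nat_lit 1025), (nat_lit 50178), (nat_lit 0), (nat_lit 1537), (nat_lit 2049), (nat_lit 124930)]

def dm_L10 : List (ℕ × List ℕ) := [((nat_lit 4), [(nat_lit 205163983024656), (nat_lit 205163414827536), (nat_lit 205163162186256), (nat_lit 205163730383376), (nat_lit 205017388167696), (nat_lit 205017135526416), (nat_lit 167633995051536), (nat_lit 151141319651856)]),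
  ((nat_lit 8), [(nat_lit 205163983024656), (nat_lit 167926616568336), (nat_lit 205018524561936), (nat_lit 167861940400656), (nat_lit 188461425635856), (nat_lit 205099306856976)]),
  ((nat_lit 6), [(nat_lit 205163983024656), (nat_lit 188671056949776), (nat_lit 130398333186576), (nat_lit 113905407111696)])]

def dm_D10 : List ℕ := [(nat_lit 0), (nat_lit 513), (nat_lit 1025), (nat_lit 65538), (nat_lit 74242), (nat_lit 92674), (nat_lit 124418), (nat_lit 135170), (nat_lit 0), (nat_lit 1537), (nat_lit 2561), (nat_lit 308424452), (nat_lit 389567236), (nat_lit 332290), (nat_lit 0), (nat_lit 10006275), (nat_lit 14989059), (nat_lit 1062933252)]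

def dm_L11 : List (ℕ × List ℕ) := [((nat_lit 0), [(nat_lit 205163983024656), (nat_lit 205163983015986), (nat_lit 205163983012131), (nat_lit 205163983020801)]),
  ((nat_lit 4), [(nat_lit 205163983024656), (nat_lit 188606631457296)])]

def dm_D11 : List ℕ := [(nat_lit 0), (nat_lit 513), (nat_lit 1025), (nat_lit 36866), (nat_lit 0), (nat_lit 1537)]

def dm_L12 : List (ℕ × List ℕ) := [((nat_lit 0), [(nat_lit 205163983024656), (nat_lit 205163414818866), (nat_lit 205163162173731), (nat_lit 205162837734996), (nat_lit 205163730379521), (nat_lit 205162269529206), (nat_lit 205162016884071), (nat_lit 205162585089861)]),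
  ((nat_lit 8), [(nat_lit 205163983024656), (nat_lit 167926616568336), (nat_lit 151369517642256), (nat_lit 188606884098576)])]

def dm_D12 : List ℕ := [(nat_lit 0), (nat_lit 513), (nat_lit 1025), (nat_lit 1537), (nat_lit 72706), (nat_lit 80386), (nat_lit 99842), (nat_lit 134658), (nat_lit 0), (nat_lit 2049), (nat_lit 2561), (nat_lit 263682)]

def dm_L13 : List (ℕ × List ℕ) := [((nat_lit 0), [(nat_lit 205163983024656), (nat_lit 205163983015986), (nat_lit 205163983012131), (nat_lit 205162837734996), (nat_lit 205163983024161), (nat_lit 205162837726326), (nat_lit 205163980783941), (nat_lit 205162837722471)]),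
  ((nat_lit 4), [(nat_lit 205163983024656), (nat_lit 205162827629856), (nat_lit 205163409404256), (nat_lit 205163108329296), (nat_lit 205162586527296), (nat_lit 205163696624496), (nat_lit 205162586403936)]),
  ((nat_lit 2), [(nat_lit 205163983024656), (nat_lit 205162825410336), (nat_lit 205162590531936), (nat_lit 205163647472496), (nat_lit 205163978831136), (nat_lit 205162389186096)]),
  ((nat_lit 1), [(nat_lit 205163983024656), (nat_lit 205162888323696), (nat_lit 205162827506256), (nat_lit 205163391644256), (nat_lit 205163632808496)]),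
  ((nat_lit 5), [(nat_lit 205163983024656), (nat_lit 205163729277456), (nat_lit 205162911388176), (nat_lit 205163933749776)]),
  ((nat_lit 3), [(nat_lit 205163983024656), (nat_lit 205163664273936), (nat_lit 205162926072336)])]

def dm_D13 : List ℕ := [(nat_lit 0), (nat_lit 513), (nat_lit 1025), (nat_lit 3585), (nat_lit 4097), (nat_lit 146946), (nat_lit 171522), (nat_lit 183810), (nat_lit 0), (nat_lit 10089219), (nat_lit 9765123), (nat_lit 602262276), (nat_lit 732638468), (nat_lit 887317252), (nat_lit 496130), (nat_lit 0), (nat_lit 462338), (nat_lit 102658), (nat_lit 37824003), (nat_lit 7156288632582), (nat_lit 44894979), (nat_lit 0), (nat_lit 3452206340), (nat_lit 199596894981), (nat_lit 205947197701), (nat_lit 343915630853), (nat_lit 0), (nat_lit 445700040965), (nat_lit 0xae33821f47307), (nat_lit 0xcc49a316f3f07), (nat_lit 0), (nat_lit 55956744966406), (nat_lit 61391230619910)]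

def dm : PM :=
  ⟨(nat_lit 12), (nat_lit 4), [(nat_lit 188606631453441), (nat_lit 205163983015986), (nat_lit 205163983012131), (nat_lit 205163414827536), (nat_lit 205163162186256), (nat_lit 167926616568336), (nat_lit 151369517642256), (nat_lit 205163980805136), (nat_lit 205018524561936), (nat_lit 205163731362576), (nat_lit 188671056949776), (nat_lit 205162837734996), (nat_lit 130106279866896), (nat_lit 205163983024161)],
    [[.l 1, .l 2, .l 3, .l 4, .l 5, .l 6, .l 7, .l 8, .l 9, .l 10, .l 11, .l 12, .l 13, .l 14],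
    [.l 1, .l 2, .l 3, .l 4, .l 5, .l 6, .l 7, .l 8, .l 9, .l 10, .l 11, .l 12, .l 13],
    [.l 2, .l 3, .l 4, .l 5, .l 6, .l 7],
    [.l 2, .l 3, .l 4, .l 5, .l 6, .l 7, .l 10, .l 11, .l 12],
    [.l 2, .l 3, .l 4, .l 5, .l 6, .l 7, .mul (.l 12) (.l 11)],
    [.l 2, .l 3, .l 4, .l 5, .l 6, .l 7, .l 10],
    [.mul (.l 2) (.l 3), .mul (.l 4) (.l 5), .l 6, .l 7],
    [.mul (.l 2) (.l 3), .l 10, .mul (.l 4) (.l 5), .l 11, .mul (.l 6) (.l 7)],
    [.l 2, .l 3, .l 4, .l 5, .l 6, .l 7, .l 9],
    [.l 4, .l 5, .l 6, .l 7],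
    [.l 4, .l 5, .l 6, .l 7, .l 9],
    [.l 2, .l 3, .mul (.mul (.mul (.l 4) (.l 5)) (.l 6)) (.l 7)],
    [.mul (.l 2) (.l 4), .mul (.l 3) (.l 5), .l 12, .l 6, .l 7],
    [.l 2, .l 3, .l 4, .l 5, .l 8, .l 10, .l 12, .l 14]],
    [dm_L0, dm_L1, dm_L2, dm_L3, dm_L4, dm_L5, dm_L6, dm_L7, dm_L8, dm_L9, dm_L10, dm_L11, dm_L12, dm_L13], [dm_D0, dm_D1, dm_D2, dm_D3, dm_D4, dm_D5, dm_D6, dm_D7, dm_D8, dm_D9, dm_D10, dm_D11, dm_D12, dm_D13]⟩

instance dm_ne : NeZero dm.n := ⟨by decide⟩

theorem dm_ok0 : dm.ok0 = true := by decide +kernel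

theorem dm_k0 : allFrom (nat_lit 0) (nat_lit 1) dm.okK = true := by decide +kernel

theorem dm_k1 : allFrom (nat_lit 1) (nat_lit 1) dm.okK = true := by decide +kernel

theorem dm_k2 : allFrom (nat_lit 2) (nat_lit 1) dm.okK = true := by decide +kernel

theorem dm_k3 : allFrom (nat_lit 3) (nat_lit 1) dm.okK = true := by decide +kernel

theorem dm_k4 : allFrom (nat_lit 4) (nat_lit 1) dm.okK = true := by decide +kernel

theorem dm_k5 : allFrom (nat_lit 5) (nat_lit 1) dm.okK = true := by decide +kernel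

theorem dm_k6 : allFrom (nat_lit 6) (nat_lit 1) dm.okK = true := by decide +kernel

theorem dm_k7 : allFrom (nat_lit 7) (nat_lit 1) dm.okK = true := by decide +kernel

theorem dm_k8 : allFrom (nat_lit 8) (nat_lit 1) dm.okK = true := by decide +kernel

theorem dm_k9 : allFrom (nat_lit 9) (nat_lit 1) dm.okK = true := by decide +kernel

theorem dm_k10 : allFrom (nat_lit 10) (nat_lit 1) dm.okK = true := by decide +kernel

theorem dm_k11 : allFrom (nat_lit 11) (nat_lit 1) dm.okK = true := by decide +kernel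

theorem dm_k12 : allFrom (nat_lit 12) (nat_lit 1) dm.okK = true := by decide +kernel

theorem dm_k13 : allFrom (nat_lit 13) (nat_lit 1) dm.okK = true := by decide +kernel

theorem dm_ok : dm.OK := PM.OK.of_check dm_ok0
  (of_allFrom_append (of_allFrom_append (of_allFrom_append (of_allFrom_append (of_allFrom_append (of_allFrom_append (of_allFrom_append (of_allFrom_append (of_allFrom_append (of_allFrom_append (of_allFrom_append (of_allFrom_append (of_allFrom_append (of_allFrom_append of_lt_zero dm_k0) dm_k1) dm_k2) dm_k3) dm_k4) dm_k5) dm_k6) dm_k7) dm_k8) dm_k9) dm_k10) dm_k11) dm_k12) dm_k13)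

theorem dm_card0 : Nat.card (genW dm.gam (dm.ws 0)) = 239500800 := (dm_ok.card 0).trans (by decide +kernel)

theorem dm_card1 : Nat.card (genW dm.gam (dm.ws 1)) = 23040 := (dm_ok.card 1).trans (by decide +kernel)

theorem dm_card2 : Nat.card (genW dm.gam (dm.ws 2)) = 64 := (dm_ok.card 2).trans (by decide +kernel)

theorem dm_card3 : Nat.card (genW dm.gam (dm.ws 3)) = 512 := (dm_ok.card 3).trans (by decide +kernel)

theorem dm_card4 : Nat.card (genW dm.gam (dm.ws 4)) = 256 := (dm_ok.card 4).trans (by decide +kernel)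

theorem dm_card5 : Nat.card (genW dm.gam (dm.ws 5)) = 128 := (dm_ok.card 5).trans (by decide +kernel)

theorem dm_card6 : Nat.card (genW dm.gam (dm.ws 6)) = 16 := (dm_ok.card 6).trans (by decide +kernel)

theorem dm_card7 : Nat.card (genW dm.gam (dm.ws 7)) = 32 := (dm_ok.card 7).trans (by decide +kernel)

theorem dm_card8 : Nat.card (genW dm.gam (dm.ws 8)) = 768 := (dm_ok.card 8).trans (by decide +kernel)

theorem dm_card9 : Nat.card (genW dm.gam (dm.ws 9)) = 16 := (dm_ok.card 9).trans (by decide +kernel)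

theorem dm_card10 : Nat.card (genW dm.gam (dm.ws 10)) = 192 := (dm_ok.card 10).trans (by decide +kernel)

theorem dm_card11 : Nat.card (genW dm.gam (dm.ws 11)) = 8 := (dm_ok.card 11).trans (by decide +kernel)

theorem dm_card12 : Nat.card (genW dm.gam (dm.ws 12)) = 32 := (dm_ok.card 12).trans (by decide +kernel)

theorem dm_card13 : Nat.card (genW dm.gam (dm.ws 13)) = 20160 := (dm_ok.card 13).trans (by decide +kernel)

/-- the orbits of the normaliser on the indices -/
def ob (j : ℕ) : ℕ := [10, 1, 1, 8, 1, 6, 6, 7, 1, 6, 6, 7, 8, 7, 7, 9, 1, 6, 6, 7, 6, 4, 5, 3, 6, 5, 4, 3, 7, 3, 3, 2, 1, 6, 6, 7, 6, 5, 4, 3, 6, 4, 5, 3, 7, 3, 3, 2, 8, 7, 7, 9, 7, 3, 3, 2, 7, 3, 3, 2, 9, 2, 2, 0].getD j 10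

/-- representatives of the orbits -/
def reps : List ℕ := [63, 1, 62, 23, 21, 22, 5, 7, 48, 15, 0]

/-- conjugating words -/
def hw (j : ℕ) : W := List.getD [.l 0, .l 0, .l 10, .mul (.l 12) (.l 13), .l 12, .l 0, .mul (.l 10) (.l 11), .l 0, .mul (.l 10) (.l 12), .l 11, .l 10, .l 10, .l 13, .l 12, .mul (.l 10) (.l 12), .l 0, .mul (.l 13) (.l 12), .l 13, .mul (.l 10) (.l 13), .l 13, .mul (.l 12) (.l 13), .l 0, .l 0, .l 0, .mul (.mul (.l 10) (.l 12)) (.l 13), .l 10, .l 10, .l 10, .mul (.l 12) (.l 13), .l 12, .mul (.l 10) (.l 12), .mul (.mul (.l 11) (.l 13)) (.l 12), .mul (.mul (.l 11) (.l 13)) (.l 12), .mul (.l 11) (.l 13), .mul (.l 13) (.l 10), .mul (.l 11) (.l 13), .mul (.mul (.l 12) (.l 11)) (.l 13), .mul (.l 10) (.l 11), .mul (.l 10) (.l 11), .mul (.l 10) (.l 11), .mul (.mul (.l 11) (.l 12)) (.l 13), .l 11, .l 11, .l 11, .mul (.mul (.l 11) (.l 12)) (.l 13), .mul (.l 11) (.l 12), .mul (.l 12) (.l 11), .mul (.l 13) (.l 12), .l 0, .mul (.l 13) (.l 12), .mul (.mul (.l 10) (.l 13)) (.l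 12), .l 13, .mul (.mul (.l 12) (.l 13)) (.l 12), .mul (.l 13) (.l 12), .mul (.mul (.l 13) (.l 10)) (.l 12), .mul (.l 10) (.l 12), .mul (.mul (.mul (.l 10) (.l 12)) (.l 13)) (.l 12), .mul (.mul (.l 11) (.l 13)) (.l 12), .mul (.mul (.l 10) (.l 13)) (.l 12), .l 12, .mul (.l 12) (.l 13), .l 10, .l 0, .l 0] j (.l 0)

/-- normalising words with their action -/
def pis : List (W × List ℕ) := [(.l 0, [0, 1, 2, 3, 4, 5, 6, 7, 8, 9, 10, 11, 12, 13, 14, 15, 16, 17, 18, 19, 20, 21, 22, 23, 24, 25, 26, 27, 28, 29, 30, 31, 32, 33, 34, 35, 36, 37, 38, 39, 40, 41, 42, 43, 44, 45, 46, 47, 48]),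
  (.l 10, [0, 2, 1, 3, 8, 10, 9, 11, 4, 6, 5, 7, 12, 14, 13, 15, 16, 18, 17, 19, 24, 26, 25, 27, 20, 22, 21, 23, 28, 30, 29, 31, 32, 34, 33, 35, 40, 42, 41, 43, 36, 38, 37, 39, 44, 46, 45, 47, 48]),
  (.l 12, [0, 4, 8, 12, 1, 5, 9, 13, 2, 6, 10, 14, 3, 7, 11, 15, 16, 20, 24, 28, 17, 21, 25, 29, 18, 22, 26, 30, 19, 23, 27, 31, 32, 36, 40, 44, 33, 37, 41, 45, 34, 38, 42, 46, 35, 39, 43, 47, 48]),
  (.mul (.l 12) (.l 10), [0, 8, 4, 12, 2, 10, 6, 14, 1, 9, 5, 13, 3, 11, 7, 15, 16, 24, 20, 28, 18, 26, 22, 30, 17, 25, 21, 29, 19, 27, 23, 31, 32, 40, 36, 44, 34, 42, 38, 46, 33, 41, 37, 45, 35, 43, 39, 47, 48]),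
  (.l 13, [0, 1, 2, 3, 16, 17, 18, 19, 32, 33, 34, 35, 48, 49, 50, 51, 4, 5, 6, 7, 20, 21, 22, 23, 36, 37, 38, 39, 52, 53, 54, 55, 8, 9, 10, 11, 24, 25, 26, 27, 40, 41, 42, 43, 56, 57, 58, 59, 12]),
  (.mul (.l 13) (.l 10), [0, 2, 1, 3, 32, 34, 33, 35, 16, 18, 17, 19, 48, 50, 49, 51, 4, 6, 5, 7, 36, 38, 37, 39, 20, 22, 21, 23, 52, 54, 53, 55, 8, 10, 9, 11, 40, 42, 41, 43, 24, 26, 25, 27, 56, 58, 57, 59, 12]),
  (.mul (.l 12) (.l 13), [0, 4, 8, 12, 16, 20, 24, 28, 32, 36, 40, 44, 48, 52, 56, 60, 1, 5, 9, 13, 17, 21, 25, 29, 33, 37, 41, 45, 49, 53, 57, 61, 2, 6, 10, 14, 18, 22, 26, 30, 34, 38, 42, 46, 50, 54, 58, 62, 3]),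
  (.mul (.mul (.l 12) (.l 13)) (.l 10), [0, 8, 4, 12, 32, 40, 36, 44, 16, 24, 20, 28, 48, 56, 52, 60, 1, 9, 5, 13, 33, 41, 37, 45, 17, 25, 21, 29, 49, 57, 53, 61, 2, 10, 6, 14, 34, 42, 38, 46, 18, 26, 22, 30, 50, 58, 54, 62, 3]),
  (.mul (.l 13) (.l 12), [0, 16, 32, 48, 1, 17, 33, 49, 2, 18, 34, 50, 3, 19, 35, 51, 4, 20, 36, 52, 5, 21, 37, 53, 6, 22, 38, 54, 7, 23, 39, 55, 8, 24, 40, 56, 9, 25, 41, 57, 10, 26, 42, 58, 11, 27, 43, 59, 12]),
  (.mul (.mul (.l 13) (.l 12)) (.l 10), [0, 32, 16, 48, 2, 34, 18, 50, 1, 33, 17, 49, 3, 35, 19, 51, 4, 36, 20, 52, 6, 38, 22, 54, 5, 37, 21, 53, 7, 39, 23, 55, 8, 40, 24, 56, 10, 42, 26, 58, 9, 41, 25, 57, 11, 43, 27, 59, 12]),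
  (.mul (.mul (.l 12) (.l 13)) (.l 12), [0, 16, 32, 48, 4, 20, 36, 52, 8, 24, 40, 56, 12, 28, 44, 60, 1, 17, 33, 49, 5, 21, 37, 53, 9, 25, 41, 57, 13, 29, 45, 61, 2, 18, 34, 50, 6, 22, 38, 54, 10, 26, 42, 58, 14, 30, 46, 62, 3]),
  (.mul (.mul (.mul (.l 12) (.l 13)) (.l 12)) (.l 10), [0, 32, 16, 48, 8, 40, 24, 56, 4, 36, 20, 52, 12, 44, 28, 60, 1, 33, 17, 49, 9, 41, 25, 57, 5, 37, 21, 53, 13, 45, 29, 61, 2, 34, 18, 50, 10, 42, 26, 58, 6, 38, 22, 54, 14, 46, 30, 62, 3])]

/-- words moving the point `2` -/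
def hs (i : Fin 12) : W := List.getD [.l 0, .l 0, .l 0, .l 10, .l 8, .mul (.l 8) (.l 10), .mul (.l 4) (.l 8), .mul (.l 5) (.l 8), .mul (.l 13) (.l 8), .mul (.mul (.l 9) (.l 5)) (.l 8), .mul (.mul (.l 6) (.l 13)) (.l 8), .mul (.mul (.l 7) (.l 13)) (.l 8)] i (.l 0)

/-- words moving a point to `4` -/
def ks : List W := [.l 0, .mul (.l 4) (.l 5), .l 4, .l 5, .l 13, .mul (.l 5) (.l 9), .mul (.l 4) (.l 13), .mul (.l 5) (.l 13)]

/-- the word with index `j` -/
def wd (j : ℕ) : W := ((List.range 6).filter j.testBit).foldr (fun i t => .mul (.l (i + 2)) t) (.l 0)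

/-- words normalising subgroup 2 -/
abbrev n2 : List W := [.l 14, .l 10, .l 11, .l 12, .l 13]

/-- words normalising subgroup 12 -/
abbrev n12 : List W := [.mul (.mul (.l 13) (.mul (.mul (.l 12) (.l 14)) (.l 12))) (.l 13), .mul (.mul (.mul (.l 14) (.l 12)) (.l 14)) (.l 12), .l 8, .l 3]

end Cfsg.Lib.D6
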