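import Cfsg.Agent.Lib.D6.Pm0

/-! Facts about the Weyl group of type `D₆` (generated). -/

set_option autoImplicit false
set_option maxRecDepth 100000

namespace Cfsg.Lib.D6

open Cfsg.Lib.Calc Cfsg.Lib.T2 Cfsg.Lib.T3 Subgroup

theorem zH {G : Type*} [Group G] {γ : ℕ → G} (g : Gf dm γ 1 []) :
    ∀ u ∈ genW γ (dm.ws 1), u * γ 2 = γ 2 * u → u * γ 8 = γ 8 * u → u * γ 4 = γ 4 * u → u * γ 9 = γ 9 * u → u * γ 6 = γ 6 * u → u * γ 7 = γ 7 * u → u = 1 ∨ u = γ 1 :=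
  g.tr (φ := .all 1 40 [(.l 2, .l 2), (.l 8, .l 8), (.l 4, .l 4), (.l 9, .l 9), (.l 6, .l 6), (.l 7, .l 7)] (.or (.one (.l 40)) (.eq (.l 40) (.l 1)))) (by decide +kernel)

theorem j1 {G : Type*} [Group G] {γ : ℕ → G} (g : Gf dm γ 1 []) :
    ∀ u ∈ genW γ (dm.ws 4), u * u = 1 → u ∈ genW γ (dm.ws 5) :=
  g.tr (φ := .all 4 40 [] (.imp (.one (.mul (.l 40) (.l 40))) (.mem 5 (.l 40)))) (by decide +kernel)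

theorem j2 {G : Type*} [Group G] {γ : ℕ → G} (g : Gf dm γ 1 []) :
    ∀ u ∈ genW γ (dm.ws 5), u ∈ genW γ (dm.ws 2) ∨ (∀ y ∈ genW γ (dm.ws 2), y * u = u * y → y ∈ genW γ (dm.ws 6)) :=
  g.tr (φ := .all 5 40 [] (.or (.mem 2 (.l 40)) (.all 2 41 [(.l 40, .l 40)] (.mem 6 (.l 41))))) (by decide +kernel)

theorem j3 {G : Type*} [Group G] {γ : ℕ → G} (g : Gf dm γ 1 []) :
    ∀ u ∈ genW γ (dm.ws 3), u * (γ 2 * γ 3) = γ 2 * γ 3 * u → u * (γ 4 * γ 5) = γ 4 * γ 5 * u → u * γ 6 = γ 6 * u → u * γ 7 = γ 7 * u → u ∈ genW γ (dm.ws 5) :=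
  g.tr (φ := .all 3 40 [(.mul (.l 2) (.l 3), .mul (.l 2) (.l 3)), (.mul (.l 4) (.l 5), .mul (.l 4) (.l 5)), (.l 6, .l 6), (.l 7, .l 7)] (.mem 5 (.l 40))) (by decide +kernel)

theorem j4 {G : Type*} [Group G] {γ : ℕ → G} (g : Gf dm γ 1 []) :
    ∀ u ∈ genW γ (dm.ws 3), u * u = 1 → u ∈ genW γ (dm.ws 2) ∨ (∃ y ∈ genW γ (dm.ws 2), ∃ k ∈ genW γ (dm.ws 2), y * u ≠ u * y ∧ k * u ≠ u * k ∧ k * y * u ≠ u * (k * y)) :=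
  g.tr (φ := .all 3 40 [] (.imp (.one (.mul (.l 40) (.l 40))) (.or (.mem 2 (.l 40)) (.ex 2 41 [] (.ex 2 42 [] (.and (.not (.eq (.mul (.l 41) (.l 40)) (.mul (.l 40) (.l 41)))) (.and (.not (.eq (.mul (.l 42) (.l 40)) (.mul (.l 40) (.l 42)))) (.not (.eq (.mul (.mul (.l 42) (.l 41)) (.l 40)) (.mul (.l 40) (.mul (.l 42) (.l 41)))))))))))) (by decide +kernel)

theorem toF {G : Type*} [Group G] {γ : ℕ → G} (g : Gf dm γ 1 []) :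
    ∀ u ∈ genW γ (dm.ws 3), u * u = 1 → ∃ h ∈ genW γ (dm.ws 1), h * u * h⁻¹ ∈ genW γ (dm.ws 2) :=
  g.tr (φ := .all 3 40 [] (.imp (.one (.mul (.l 40) (.l 40))) (.ex 1 41 [] (.mem 2 (.mul (.mul (.l 41) (.l 40)) (.inv (.l 41))))))) (by decide +kernel)

theorem p4 {G : Type*} [Group G] {γ : ℕ → G} (g : Gf dm γ 1 []) :
    ∀ u ∈ genW γ (dm.ws 3), u ^ 4 = 1 ∨ u ^ 4 = γ 2 * γ 3 * γ 4 * γ 5 :=
  g.tr (φ := .all 3 40 [] (.or (.one (.pow (.l 40) 4)) (.eq (.pow (.l 40) 4) (.mul (.mul (.mul (.l 2) (.l 3)) (.l 4)) (.l 5))))) (by decide +kernel)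

theorem fa {G : Type*} [Group G] {γ : ℕ → G} (g : Gf dm γ 1 []) :
    ∀ u ∈ genW γ (dm.ws 1), u * γ 2 = γ 2 * u → u * γ 3 = γ 3 * u :=
  g.tr (φ := .all 1 40 [(.l 2, .l 2)] (.eq (.mul (.l 40) (.l 3)) (.mul (.l 3) (.l 40)))) (by decide +kernel)

theorem fc {G : Type*} [Group G] {γ : ℕ → G} (g : Gf dm γ 1 []) :
    ∀ u ∈ genW γ (dm.ws 1), u * γ 4 = γ 4 * u → u * γ 5 = γ 5 * u :=
  g.tr (φ := .all 1 40 [(.l 4, .l 4)] (.eq (.mul (.l 40) (.l 5)) (.mul (.l 5) (.l 40)))) (by decide +kernel)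

theorem fd {G : Type*} [Group G] {γ : ℕ → G} (g : Gf dm γ 1 []) :
    ∀ u ∈ genW γ (dm.ws 1), u * γ 5 = γ 5 * u → u * γ 4 = γ 4 * u :=
  g.tr (φ := .all 1 40 [(.l 5, .l 5)] (.eq (.mul (.l 40) (.l 4)) (.mul (.l 4) (.l 40)))) (by decide +kernel)

theorem fq {G : Type*} [Group G] {γ : ℕ → G} (g : Gf dm γ 1 []) :
    ∀ u ∈ genW γ (dm.ws 1), u * γ 2 = γ 2 * u → u * u = 1 → (u * γ 4) ^ 3 = 1 → u = γ 4 ∨ (∃ k ∈ genW γ (dm.ws 9), k * γ 9 = u * k ∧ True) :=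
  g.tr (φ := .all 1 40 [(.l 2, .l 2)] (.imp (.one (.mul (.l 40) (.l 40))) (.imp (.one (.pow (.mul (.l 40) (.l 4)) 3)) (.or (.eq (.l 40) (.l 4)) (.ex 9 41 [(.l 9, .l 40)] (.tt)))))) (by decide +kernel)

theorem fs {G : Type*} [Group G] {γ : ℕ → G} (g : Gf dm γ 1 []) :
    ∀ u ∈ genW γ (dm.ws 1), u * γ 4 = γ 4 * u → u * u = 1 → (u * γ 7) ^ 3 = 1 → (u * γ 3) ^ 3 = 1 → u * γ 8 = γ 8 * u ∨ γ 3 * u * γ 3 * γ 8 = γ 8 * (γ 3 * u * γ 3) :=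
  g.tr (φ := .all 1 40 [(.l 4, .l 4)] (.imp (.one (.mul (.l 40) (.l 40))) (.imp (.one (.pow (.mul (.l 40) (.l 7)) 3)) (.imp (.one (.pow (.mul (.l 40) (.l 3)) 3)) (.or (.eq (.mul (.l 40) (.l 8)) (.mul (.l 8) (.l 40))) (.eq (.mul (.mul (.mul (.l 3) (.l 40)) (.l 3)) (.l 8)) (.mul (.l 8) (.mul (.mul (.l 3) (.l 40)) (.l 3))))))))) (by decide +kernel)

theorem fz {G : Type*} [Group G] {γ : ℕ → G} (g : Gf dm γ 1 []) :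
    ∀ u ∈ genW γ (dm.ws 1), u * γ 2 = γ 2 * u → u * γ 3 = γ 3 * u → u * γ 4 = γ 4 * u → u * γ 5 = γ 5 * u → u * γ 6 = γ 6 * u → u * γ 7 = γ 7 * u → u * γ 9 = γ 9 * u → u ∈ genW γ (dm.ws 11) ∧ u * u = 1 :=
  g.tr (φ := .all 1 40 [(.l 2, .l 2), (.l 3, .l 3), (.l 4, .l 4), (.l 5, .l 5), (.l 6, .l 6), (.l 7, .l 7), (.l 9, .l 9)] (.and (.mem 11 (.l 40)) (.one (.mul (.l 40) (.l 40))))) (by decide +kernel)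

theorem ff {G : Type*} [Group G] {γ : ℕ → G} (g : Gf dm γ 1 []) :
    ∀ u ∈ genW γ (dm.ws 1), u * γ 2 = γ 2 * u → u * γ 3 = γ 3 * u → u * γ 4 = γ 4 * u → u * γ 5 = γ 5 * u → u * γ 6 = γ 6 * u → u * γ 7 = γ 7 * u → u ∈ genW γ (dm.ws 2) :=
  g.tr (φ := .all 1 40 [(.l 2, .l 2), (.l 3, .l 3), (.l 4, .l 4), (.l 5, .l 5), (.l 6, .l 6), (.l 7, .l 7)] (.mem 2 (.l 40))) (by decide +kernel)

theorem fo {G : Type*} [Group G] {γ : ℕ → G} (g : Gf dm γ 1 []) :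
    ∀ u ∈ genW γ (dm.ws 1), u * (γ 2 * γ 4) = γ 2 * γ 4 * u → u * (γ 3 * γ 5) = γ 3 * γ 5 * u → u * γ 12 = γ 12 * u → u * γ 6 = γ 6 * u → u * γ 7 = γ 7 * u → u ∈ genW γ (dm.ws 12) :=
  g.tr (φ := .all 1 40 [(.mul (.l 2) (.l 4), .mul (.l 2) (.l 4)), (.mul (.l 3) (.l 5), .mul (.l 3) (.l 5)), (.l 12, .l 12), (.l 6, .l 6), (.l 7, .l 7)] (.mem 12 (.l 40))) (by decide +kernel)

theorem sq2 {G : Type*} [Group G] {γ : ℕ → G} (g : Gf dm γ 1 []) :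
    ∀ u ∈ genW γ (dm.ws 2), u * u = 1 :=
  g.tr (φ := .all 2 40 [] (.one (.mul (.l 40) (.l 40)))) (by decide +kernel)

theorem sq7 {G : Type*} [Group G] {γ : ℕ → G} (g : Gf dm γ 1 []) :
    ∀ u ∈ genW γ (dm.ws 7), u * u = 1 :=
  g.tr (φ := .all 7 40 [] (.one (.mul (.l 40) (.l 40)))) (by decide +kernel)

theorem cq {G : Type*} [Group G] {γ : ℕ → G} (g : Gf dm γ 1 []) :
    ∀ u ∈ genW γ (dm.ws 1), u * (γ 2 * γ 3) = γ 2 * γ 3 * u → u * γ 10 = γ 10 * u → u * (γ 4 * γ 5) = γ 4 * γ 5 * u → u * γ 11 = γ 11 * u → u * (γ 6 * γ 7) = γ 6 * γ 7 * u → u * u = 1 :=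
  g.tr (φ := .all 1 40 [(.mul (.l 2) (.l 3), .mul (.l 2) (.l 3)), (.l 10, .l 10), (.mul (.l 4) (.l 5), .mul (.l 4) (.l 5)), (.l 11, .l 11), (.mul (.l 6) (.l 7), .mul (.l 6) (.l 7))] (.one (.mul (.l 40) (.l 40)))) (by decide +kernel)

theorem fv {G : Type*} [Group G] {γ : ℕ → G} (g : Gf dm γ 8 [.l 14, .l 10]) :
    ∀ u ∈ genW γ (dm.ws 11), u * (γ 14)⁻¹ * u * (γ 14)⁻¹ * u * γ 14 * γ 14 = 1 → γ 14 * u * (γ 14)⁻¹ = γ 2 * γ 3 * γ 10 * u * (γ 2 * γ 3 * γ 10)⁻¹ → u = 1 ∨ u = γ 3 :=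
  g.tr (φ := .all 11 40 [] (.imp (.one (.mul (.mul (.mul (.mul (.mul (.mul (.l 40) (.inv (.l 14))) (.l 40)) (.inv (.l 14))) (.l 40)) (.l 14)) (.l 14))) (.imp (.eq (.mul (.mul (.l 14) (.l 40)) (.inv (.l 14))) (.mul (.mul (.mul (.mul (.l 2) (.l 3)) (.l 10)) (.l 40)) (.inv (.mul (.mul (.l 2) (.l 3)) (.l 10))))) (.or (.one (.l 40)) (.eq (.l 40) (.l 3)))))) (by decide +kernel)

theorem fk {G : Type*} [Group G] {γ : ℕ → G} (g : Gf dm γ 2 n2) :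
    ∀ k ∈ genW γ (dm.ws 2), k * (γ 12 * γ 14 * γ 12) * k * (γ 12 * γ 14 * γ 12) * k * (γ 12 * γ 14 * γ 12)⁻¹ * (γ 12 * γ 14 * γ 12)⁻¹ = 1 → γ 14 * γ 14 * k * (γ 14)⁻¹ * k * (γ 14)⁻¹ * k = 1 → k = 1 :=
  g.tr (φ := .all 2 40 [] (.imp (.one (.mul (.mul (.mul (.mul (.mul (.mul (.l 40) (.mul (.mul (.l 12) (.l 14)) (.l 12))) (.l 40)) (.mul (.mul (.l 12) (.l 14)) (.l 12))) (.l 40)) (.inv (.mul (.mul (.l 12) (.l 14)) (.l 12)))) (.inv (.mul (.mul (.l 12) (.l 14)) (.l 12))))) (.imp (.one (.mul (.mul (.mul (.mul (.mul (.mul (.l 14) (.l 14)) (.l 40)) (.inv (.l 14))) (.l 40)) (.inv (.l 14))) (.l 40))) (.one (.l 40))))) (by decide +kernel)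

theorem fe {G : Type*} [Group G] {γ : ℕ → G} (g : Gf dm γ 12 n12) :
    ∀ u ∈ genW γ (dm.ws 12), u * (γ 14 * γ 12 * γ 14 * γ 12 * γ 8 * γ 3) = γ 14 * γ 12 * γ 14 * γ 12 * γ 8 * γ 3 * u → u * (γ 13 * (γ 12 * γ 14 * γ 12) * γ 13) = γ 13 * (γ 12 * γ 14 * γ 12) * γ 13 * u → u = 1 ∨ u = γ 2 * γ 4 * (γ 3 * γ 5) * γ 12 :=
  g.tr (φ := .all 12 40 [] (.imp (.eq (.mul (.l 40) (.mul (.mul (.mul (.mul (.mul (.l 14) (.l 12)) (.l 14)) (.l 12)) (.l 8)) (.l 3))) (.mul (.mul (.mul (.mul (.mul (.mul (.l 14) (.l 12)) (.l 14)) (.l 12)) (.l 8)) (.l 3)) (.l 40))) (.imp (.eq (.mul (.l 40) (.mul (.mul (.l 13) (.mul (.mul (.l 12) (.l 14)) (.l 12))) (.l 13))) (.mul (.mul (.mul (.l 13) (.mul (.mul (.l 12) (.l 14)) (.l 12))) (.l 13)) (.l 40))) (.or (.one (.l 40)) (.eq (.l 40) (.mul (.mul (.mul (.l 2) (.l 4)) (.mul (.l 3)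 (.l 5))) (.l 12))))))) (by decide +kernel)

end Cfsg.Lib.D6
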